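/-
S1763 (helper88): the linear classification in the case `T = det`; checkers and intermediate statements.
-/
import Cfsg.Agent.N9.Data

set_option autoImplicit false

namespace CL.N9.LN

open Cfsg Subgroup CL.Cls QuadraticMap Module

abbrev Sub : Type := Submodule (ZMod 2) V8
abbrev QF : Type := QuadraticForm (ZMod 2) V8

noncomputable def Ds : List Dat := [d27, d81, d45a, d45b, d105, d15, d45c, d75, d9, d135]

def trE (e : V8 ≃ₗ[ZMod 2] V8) (E : V8 → Sub) : V8 → Sub := fun w => (E (e.symm w)).map e.toLinearMap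
def trL {q q' : QF} (e : V8 ≃ₗ[ZMod 2] V8) (he : ∀ v, q' (e v) = q v) (L : V8 → Subgroup (OG q)) :
    V8 → Subgroup (OG q') := fun w => trX e he (L (e.symm w))

/-- the conclusion of `LinDet Ds` -/
def Res (q : QF) (X : Subgroup (OG q)) (O : Set V8) (E : V8 → Sub) (L : V8 → Subgroup (OG q)) : Prop :=
  ∃ (e : V8 ≃ₗ[ZMod 2] V8) (he : ∀ v, qp (e v) = q v), ∃ D ∈ Ds, Cfg D (trX e he X) (e '' O) (trE e E) (trL e he L)

/-! ### checkers -/

/-- a word: the last five bits are the length, the others the letters in base sixteen -/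
def wd (n : ℕ) : List ℕ := (List.range (n % 32)).map fun k => (n >>> (5 + 4 * k)) % 16
/-- the letters are applied from left to right -/
def run (G : List ℕ) (n x : ℕ) : ℕ := (wd n).foldl (fun x i => ap (G.getD i idc) x) x
def prodw (G : List ℕ) (n : ℕ) : ℕ := (wd n).foldl (fun c i => mulc (G.getD i idc) c) idc
/-- the eight products of the first three codes -/
def els (y : List ℕ) : List ℕ := [idc, y.getD 0 idc, y.getD 1 idc, mulc (y.getD 0 idc) (y.getD 1 idc), y.getD 2 idc,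
  mulc (y.getD 0 idc) (y.getD 2 idc), mulc (y.getD 1 idc) (y.getD 2 idc),
  mulc (y.getD 0 idc) (mulc (y.getD 1 idc) (y.getD 2 idc))]
def cjc (t t' c : ℕ) : ℕ := mulc t (mulc c t')
def inv2 (t t' : ℕ) : Bool := okc t && okc t' && mulc t t' == idc && mulc t' t == idc
def same (y y' : List ℕ) : Bool := (els y).all (els y').contains && (els y').all (els y).contains
/-- `xc i b = eich (e 7) (m i + w b) * root i` -/
def xt : List ℕ := [0x80c02030080c0203, 0x80c02030080c82c3, 0x80c02030088c0223, 0x80c02030088c82e3, 0x80c020b0080c020b,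
  0x80c020b0080c82cb, 0x80c020b0088c022b, 0x80c020b0088c82eb, 0x8040a05008040a05, 0x8040a05008048a45,
  0x8040a05008840aa5, 0x8040a05008848ae5, 0x8040a0d008040a0d, 0x8040a0d008048a4d, 0x8040a0d008840aad,
  0x8040a0d008848aed, 0x8040201088442211, 0x804020108844a251, 0x8040201088c42231, 0x8040201088c4a271,
  0x8040209088442299, 0x804020908844a2d9, 0x8040209088c422b9, 0x8040209088c4a2f9]
def xc (i b : ℕ) : ℕ := xt.getD (8 * i + b) 0
def xa (a b c : ℕ) : List ℕ := [xc 0 a, xc 1 b, xc 2 c]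
/-- thirty frames (with inverses) mapping `e 7` to `e 0` -/
def frames : List (ℕ × ℕ) := [(0x102041008204080, 0x102041008204080), (0x102040810204080, 0x102040810204080),
  (0x102080420104080, 0x102080420104080), (0x1020c0430104080, 0x1020c0430104080),
  (0x102100420084080, 0x102082004104080), (0x102140428084080, 0x1020c3004104080),
  (0x104080240102080, 0x108020420401080), (0x1040a0250102080, 0x10c020430401080),
  (0x104100240082080, 0x108022004401080), (0x104120248082080, 0x10c023004401080),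
  (0x106080260102080, 0x10a020420501080), (0x1060a0270102080, 0x10e020430501080),
  (0x106100260082080, 0x10a022004501080), (0x106120268082080, 0x10e023004501080),
  (0x108200240041080, 0x108200240041080), (0x108220244041080, 0x10c300240041080),
  (0x10a200250041080, 0x10a200250041080), (0x10a220254041080, 0x10e300250041080),
  (0x10c300240041080, 0x108220244041080), (0x10c320244041080, 0x10c320244041080),
  (0x10e300250041080, 0x10a220254041080), (0x10e320254041080, 0x10e320254041080),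
  (0x110200240040880, 0x108204002041080), (0x110220244040880, 0x10c304002041080),
  (0x112200248040880, 0x10a205002041080), (0x11222024c040880, 0x10e305002041080),
  (0x114280240040880, 0x108224402041080), (0x1142a0244040880, 0x10c324402041080),
  (0x116280248040880, 0x10a225402041080), (0x1162a024c040880, 0x10e325402041080)]
/-- `t` fixes `e 7` and preserves `⟨e 7, e 6, e 5, e 3⟩` -/
def stab (t : ℕ) : Bool := ap t 128 == 128 && (ap t 64 &&& 23) == 0 && (ap t 32 &&& 23) == 0 && (ap t 8 &&& 23) == 0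
/-- A certificate `c = (s1, s2, i, w)`: letter `i` lies in `L p` (`p = 128` if `i < 3`, `p = r` if `n0 ≤ i`), the word
`w` maps `p` to `128`, and the conjugate of the letter is none of `els G`. -/
def kill (G : List ℕ) (n0 r c : ℕ) : Bool :=
  ((c >>> 16) % 16 < 3 || (n0 ≤ (c >>> 16) % 16 && (c >>> 16) % 16 < G.length)) &&
  run G (c >>> 20) (bif (c >>> 16) % 16 < 3 then 128 else r) == 128 &&
  (els G).all fun d =>
    !(ap d (run G (c >>> 20) (c % 256)) == run G (c >>> 20) (ap (G.getD ((c >>> 16) % 16) idc) (c % 256)) &&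
      ap d (run G (c >>> 20) ((c >>> 8) % 256)) ==
        run G (c >>> 20) (ap (G.getD ((c >>> 16) % 16) idc) ((c >>> 8) % 256)))
abbrev Tr : Type := List (ℕ × List (ℕ × List ℕ))
/-- all labels with frame `F` at the point `r` are refuted or listed in `S` -/
def chkF (G : List ℕ) (r : ℕ) (S : List (List ℕ)) (F F' : ℕ) (T : Tr) : Bool :=
  (List.range 8).all fun a => kill (G ++ [cjc F F' (xc 0 a)]) G.length r (T.getD a (0, [])).1 ||
    (List.range 8).all fun b => kill (G ++ [cjc F F' (xc 0 a), cjc F F' (xc 1 b)]) G.length r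
        ((T.getD a (0, [])).2.getD b (0, [])).1 ||
      (List.range 8).all fun c => kill (G ++ [cjc F F' (xc 0 a), cjc F F' (xc 1 b), cjc F F' (xc 2 c)]) G.length r
          (((T.getD a (0, [])).2.getD b (0, [])).2.getD c 0) ||
        S.any (same [cjc F F' (xc 0 a), cjc F F' (xc 1 b), cjc F F' (xc 2 c)])
def chkT (G : List ℕ) (r : ℕ) (S : List (List ℕ)) (t t' : ℕ) (Ts : List Tr) : Bool :=
  inv2 t t' && ap t 1 == r && decide (3 ≤ G.length) && (List.range 30).all fun j =>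
    chkF G r S (mulc t (frames.getD j (0, 0)).1) (mulc (frames.getD j (0, 0)).2 t') (Ts.getD j [])
/-- the code of the matrix with the columns `f 1, f 2, f 4, ...` -/
def mkc (f : ℕ → ℕ) : ℕ := f 1 % 256 + 256 * (f 2 % 256 + 256 * (f 4 % 256 + 256 * (f 8 % 256 + 256 * (f 16 % 256 +
  256 * (f 32 % 256 + 256 * (f 64 % 256 + 256 * (f 128 % 256)))))))
/-- the code of `eich qp (dec r) (dec m)` -/
def eichc (r m : ℕ) : ℕ := mkc fun x => x ^^^ (bif bN m x then r else 0) ^^^ (bif bN r x then m else 0) ^^^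
  (bif qN m && bN r x then r else 0)
/-- the Eichler maps at `r` that survive have their parameter in `⟨r, s1, s2⟩` -/
def chk0 (G P : List ℕ) (r s1 s2 : ℕ) (cs : List ℕ) : Bool := (List.range 256).all fun m =>
  bN r m || [0, s1, s2, s1 ^^^ s2, r, r ^^^ s1, r ^^^ s2, r ^^^ (s1 ^^^ s2)].contains m ||
    P.any (fun p => !P.contains (ap (eichc r m) p)) || cs.any (kill (G ++ [eichc r m]) 16 0)
/-- the matrix with the columns `ap d x`, `d ∈ els y` -/
def colm (y : List ℕ) (x : ℕ) : ℕ := ((els y).map fun d => ap d x).foldr (fun a s => a + 256 * s) 0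
/-- test vectors -/
def tv : List ℕ := [1, 2, 4, 8, 16, 32, 64, 128, 3, 5, 9, 17, 33, 65, 129, 6, 10, 18, 34, 66, 130, 12, 20, 36, 68, 132,
  24, 40, 72, 136, 48, 80, 144, 96, 160, 192]
/-- The stabiliser of `128`: `T2` lists `(u, w)`, `w` a word fixing `128` and moving `u` into `U`; an element that
moves `1` into `U` is determined by its action on `els G`; it is refuted or one of the words `A` in `N`. -/
def chkU (G N P : List ℕ) (T2 : List (ℕ × ℕ)) (U : List ℕ) (Bi : ℕ) (A : List (ℕ × ℕ)) (cs : List ℕ) : Bool :=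
  mulc (colm G 1) Bi == idc && (P.all fun u => !bN 128 u || T2.any fun e => e.1 == u && run G e.2 128 == 128 &&
    U.contains (run G e.2 u)) && (A.all fun e => prodw N e.2 == e.1) &&
  U.all fun u => (els G).all fun a => (els G).all fun b => (els G).all fun c =>
    tv.any (fun x => qN (ap (mulc (colm [a, b, c] u) Bi) x) != qN x) ||
      A.any (fun e => e.1 == mulc (colm [a, b, c] u) Bi) || cs.any (kill (G ++ [mulc (colm [a, b, c] u) Bi]) 16 0)
/-- `T` lists `(x, w, w')` for all singular `x`: for `x ∈ P` the word `w` maps `x` to `128` and `w'` maps `128` to `x`,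
otherwise `w` maps `x` into `R` -/
def chkW (G P R : List ℕ) (T : List (ℕ × ℕ × ℕ)) : Bool := (List.range 256).all fun x =>
  bif P.contains x then T.any fun e => e.1 == x && run G e.2.1 x == 128 && run G e.2.2 128 == x
  else x == 0 || qN x || T.any fun e => e.1 == x && R.contains (run G e.2.1 x)

/-! ### predicates -/

def InX (X : Subgroup (OG qp)) (G : List ℕ) : Prop := ∀ c ∈ G, ∃ g ∈ X, Is g c
def Lb (L : V8 → Subgroup (OG qp)) (p : ℕ) (y : List ℕ) : Prop := ∀ g, g ∈ L (dec p) ↔ ∃ c ∈ els y, Is g c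
def Pt (O : Set V8) (L : V8 → Subgroup (OG qp)) (x : ℕ) : Prop := x < 256 ∧ dec x ∈ O ∧ ¬ T0 L (dec x)

/-- the base point in standard position; only the first three codes of `y` matter -/
structure B0 (X : Subgroup (OG qp)) (O : Set V8) (E : V8 → Sub) (L : V8 → Subgroup (OG qp)) (y : List ℕ) : Prop where
  ld : LD qp X O E L
  irr : Irr X
  pt : Pt O L 128
  e6 : dec 64 ∈ E (dec 128)
  e5 : dec 32 ∈ E (dec 128)
  e3 : dec 8 ∈ E (dec 128)
  lb : Lb L 128 y

/-! ### statements -/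

def TR : Prop := ∀ (q q' : QF) (e : V8 ≃ₗ[ZMod 2] V8) (he : ∀ v, q' (e v) = q v) (X : Subgroup (OG q)) (O : Set V8)
  (E : V8 → Sub) (L : V8 → Subgroup (OG q)),
  (LD q X O E L → LD q' (trX e he X) (e '' O) (trE e E) (trL e he L)) ∧ (Irr X → Irr (trX e he X)) ∧
  (∀ v, T0 (trL e he L) (e v) ↔ T0 L v) ∧ (Res q' (trX e he X) (e '' O) (trE e E) (trL e he L) → Res q X O E L)

def HB : Prop := ∀ (q : QF) (b : Fin 8 → V8), (∀ i, q (b i) = 0) →
  (∀ i j, polar q (b i) (b j) = if j = i.rev then 1 else 0) →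
  ∃ e : V8 ≃ₗ[ZMod 2] V8, (∀ v, qp (e v) = q v) ∧ ∀ i, e (b i) = dec (2 ^ i.val)

def FRAME : Prop := ∀ (q : QF) (X : Subgroup (OG q)) (O : Set V8) (E : V8 → Sub) (L : V8 → Subgroup (OG q)),
  LD q X O E L → ∀ v ∈ O, ¬ T0 L v → ∃ e : V8 ≃ₗ[ZMod 2] V8, (∀ x, qp (e x) = q x) ∧ e v = dec 128 ∧
    e.symm (dec 64) ∈ E v ∧ e.symm (dec 32) ∈ E v ∧ e.symm (dec 8) ∈ E v

def FR : Prop := ∀ (W : Sub) (g : OG qp), (∀ w ∈ W, qp w = 0) → g.1 (dec 128) = dec 1 → dec 1 ∈ W →
  g.1 (dec 64) ∈ W → g.1 (dec 32) ∈ W → g.1 (dec 8) ∈ W → ∃ j < 30, inv2 (frames.getD j (0, 0)).1 (frames.getD j (0, 0)).2 = true ∧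
    ap (frames.getD j (0, 0)).1 128 = 1 ∧ dec (ap (frames.getD j (0, 0)).1 64) ∈ W ∧
    dec (ap (frames.getD j (0, 0)).1 32) ∈ W ∧ dec (ap (frames.getD j (0, 0)).1 8) ∈ W

def NF0 : Prop := ∀ (X : Subgroup (OG qp)) (O : Set V8) (E : V8 → Sub) (L : V8 → Subgroup (OG qp)),
  LD qp X O E L → Pt O L 128 → dec 64 ∈ E (dec 128) → dec 32 ∈ E (dec 128) → dec 8 ∈ E (dec 128) →
  ∃ a < 8, ∃ b < 8, ∃ c < 8, Lb L 128 (xa a b c)

/-- change of coordinates by a coded isometry -/
def MV0 : Prop := ∀ (X : Subgroup (OG qp)) (O : Set V8) (E : V8 → Sub) (L : V8 → Subgroup (OG qp)) (g : OG qp)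
  (t t' : ℕ), Is g t → Is g⁻¹ t' → LD qp X O E L → Irr X →
  ∃ (X' : Subgroup (OG qp)) (O' : Set V8) (E' : V8 → Sub) (L' : V8 → Subgroup (OG qp)),
    LD qp X' O' E' L' ∧ Irr X' ∧ (Res qp X' O' E' L' → Res qp X O E L) ∧
    (∀ p < 256, Pt O' L' (ap t p) ↔ Pt O L p) ∧ (∀ p x, dec (ap t x) ∈ E' (dec (ap t p)) ↔ dec x ∈ E (dec p)) ∧
    (∀ p y, y.length = 3 → Lb L p y → Lb L' (ap t p) (y.map (cjc t t'))) ∧
    ∀ p y, y.length = 3 → Lb L' (ap t p) y → Lb L p (y.map (cjc t' t))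

def MV : Prop := ∀ (X : Subgroup (OG qp)) (O : Set V8) (E : V8 → Sub) (L : V8 → Subgroup (OG qp)) (y y' : List ℕ)
  (t t' : ℕ), B0 X O E L y → y.length = 3 → inv2 t t' = true → stab t' = true → same (y.map (cjc t t')) y' = true →
  ∃ (X' : Subgroup (OG qp)) (O' : Set V8) (E' : V8 → Sub) (L' : V8 → Subgroup (OG qp)),
    B0 X' O' E' L' y' ∧ (Res qp X' O' E' L' → Res qp X O E L) ∧ (∀ p, Pt O L p → Pt O' L' (ap t p)) ∧
    ∀ p z z', z.length = 3 → Lb L p z → same (z.map (cjc t t')) z' = true → Lb L' (ap t p) z'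

/-- the labels at an arbitrary point -/
def NF : Prop := ∀ (X : Subgroup (OG qp)) (O : Set V8) (E : V8 → Sub) (L : V8 → Subgroup (OG qp)) (t t' : ℕ),
  LD qp X O E L → Irr X → inv2 t t' = true → Pt O L (ap t 1) → ∃ j < 30, ∃ a < 8, ∃ b < 8, ∃ c < 8,
    Lb L (ap t 1) ((xa a b c).map (cjc (mulc t (frames.getD j (0, 0)).1) (mulc (frames.getD j (0, 0)).2 t')))

def WRD : Prop := ∀ (K : Subgroup (OG qp)) (G : List ℕ) (n : ℕ), InX K G →
  ∃ k ∈ K, Is k (prodw G n) ∧ ∀ x, k.1 (dec x) = dec (run G n x)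

/-- invariance under `X` -/
def INV : Prop := ∀ (X : Subgroup (OG qp)) (O : Set V8) (E : V8 → Sub) (L : V8 → Subgroup (OG qp)),
  LD qp X O E L → ∀ g ∈ X, ∀ v ∈ O, (T0 L (g.1 v) ↔ T0 L v)

def EXU : Prop := ∀ (X : Subgroup (OG qp)) (O : Set V8) (E : V8 → Sub) (L : V8 → Subgroup (OG qp)) (y : List ℕ),
  B0 X O E L y → ∃ p, Pt O L p ∧ bN 128 p = true ∧ qN p = false

def KILL : Prop := ∀ (X : Subgroup (OG qp)) (O : Set V8) (E : V8 → Sub) (L : V8 → Subgroup (OG qp)) (G : List ℕ)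
  (n0 r c : ℕ), B0 X O E L G → InX X G →
  (∀ i, n0 ≤ i → i < G.length → dec r ∈ O ∧ ∃ g ∈ L (dec r), Is g (G.getD i idc)) → kill G n0 r c = false

def TREE : Prop := ∀ (X : Subgroup (OG qp)) (O : Set V8) (E : V8 → Sub) (L : V8 → Subgroup (OG qp)) (G : List ℕ)
  (r : ℕ) (S : List (List ℕ)) (t t' : ℕ) (Ts : List Tr), B0 X O E L G → InX X G → Pt O L r →
  chkT G r S t t' Ts = true → ∃ y ∈ S, Lb L r y

def T0X : Prop := ∀ (X : Subgroup (OG qp)) (O : Set V8) (E : V8 → Sub) (L : V8 → Subgroup (OG qp)) (G P : List ℕ)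
  (r s1 s2 : ℕ) (cs : List ℕ), B0 X O E L G → InX X G → G.length < 16 → (∀ x, Pt O L x ↔ x ∈ P) → r < 256 →
  dec r ∈ O → T0 L (dec r) → chk0 G P r s1 s2 cs = false

def UB : Prop := ∀ (X : Subgroup (OG qp)) (O : Set V8) (E : V8 → Sub) (L : V8 → Subgroup (OG qp)) (G N P : List ℕ)
  (T2 : List (ℕ × ℕ)) (U : List ℕ) (Bi : ℕ) (A : List (ℕ × ℕ)) (cs : List ℕ) (K : Subgroup (OG qp)),
  B0 X O E L G → InX X G → 3 ≤ G.length → G.length < 16 → (∀ x, Pt O L x ↔ x ∈ P) → 1 ∈ P → InX (X ⊓ K) G → InX K N →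
  chkU G N P T2 U Bi A cs = true → ∀ g ∈ X, g.1 (dec 128) = dec 128 → g ∈ K

/-- the points, and the final step for one configuration -/
def PTS : Prop := ∀ (X : Subgroup (OG qp)) (O : Set V8) (E : V8 → Sub) (L : V8 → Subgroup (OG qp)) (G P R : List ℕ)
  (T : List (ℕ × ℕ × ℕ)), B0 X O E L G → InX X G → (∀ p ∈ P, p < 256) → chkW G P R T = true →
  ((∀ r ∈ R, ¬ Pt O L r) → ∀ x, Pt O L x ↔ x ∈ P) ∧
  ((∀ x, Pt O L x ↔ x ∈ P) → (∀ r ∈ R, r < 256 → dec r ∈ O → ¬ T0 L (dec r)) → ∀ v, v ∈ O ↔ v ∈ P.map dec) ∧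
  ∀ K : Subgroup (OG qp), InX (X ⊓ K) G → (∀ x, Pt O L x ↔ x ∈ P) →
    (∀ g ∈ X, g.1 (dec 128) = dec 128 → g ∈ K) → X ≤ K

def FIN : Prop := ∀ (X : Subgroup (OG qp)) (O : Set V8) (E : V8 → Sub) (L : V8 → Subgroup (OG qp)) (c : DC),
  c.dat ∈ Ds → c.ok = true → 3 ≤ c.gH.length → 128 ∈ c.P → B0 X O E L c.gH → InX X c.gH →
  InX (closure {g | g ∈ c.dat.gN}) (c.gH ++ c.ex) ∧ InX (X ⊓ closure {g | g ∈ c.dat.gN}) c.gH ∧
  ((∀ v, v ∈ O ↔ v ∈ c.P.map dec) → X ≤ closure {g | g ∈ c.dat.gN} → Res qp X O E L)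

/-! ### small lemmas -/

theorem Lb.same {L : V8 → Subgroup (OG qp)} {p : ℕ} {y y' : List ℕ} (h : Lb L p y) (s : same y y' = true) :
    Lb L p y' := fun g => by
  simp only [LN.same, Bool.and_eq_true, List.all_eq_true, List.contains_iff_mem] at s
  exact (h g).trans ⟨fun ⟨c, hc, k⟩ => ⟨c, s.1 c hc, k⟩, fun ⟨c, hc, k⟩ => ⟨c, s.2 c hc, k⟩⟩

theorem els_append {y : List ℕ} (h : 3 ≤ y.length) (z : List ℕ) : els (y ++ z) = els y := by
  have k : ∀ i < 3, (y ++ z).getD i idc = y.getD i idc := fun i hi => List.getD_append _ _ _ _ (by omega)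
  simp only [els, k 0 (by norm_num), k 1 (by norm_num), k 2 (by norm_num)]

theorem B0.append {X : Subgroup (OG qp)} {O : Set V8} {E : V8 → Sub} {L : V8 → Subgroup (OG qp)} {y : List ℕ}
    (h : B0 X O E L y) (l : 3 ≤ y.length) (z : List ℕ) : B0 X O E L (y ++ z) :=
  ⟨h.ld, h.irr, h.pt, h.e6, h.e5, h.e3, fun g => by rw [els_append l]; exact h.lb g⟩

theorem inv2_is {t t' : ℕ} (h : inv2 t t' = true) : Is (cO t) t ∧ Is (cO t)⁻¹ t' := by
  simp only [inv2, Bool.and_eq_true, beq_iff_eq] at h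
  exact ⟨is_cO h.1.1.1, (is_cO h.1.1.1).inv h.1.1.2 h.1.2⟩

theorem run_lt (G : List ℕ) (n : ℕ) {x : ℕ} (h : x < 256) : run G n x < 256 := by
  unfold run
  induction wd n generalizing x with
  | nil => exact h
  | cons a l ih => exact ih (ap_lt _ _)

theorem frames_ok : ∀ j < 30, inv2 (frames.getD j (0, 0)).1 (frames.getD j (0, 0)).2 = true ∧
    ap (frames.getD j (0, 0)).1 128 = 1 := by decide +kernel

theorem xt_ok : xt.all (fun c => okc c && mulc c c == idc) = true := by decide +kernel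

end CL.N9.LN
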