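/-
Extraspecial `F*(C(z))` of order `2 ^ 9`, the case `S₃ × A₅`: the matrix model of the relations in `Ω₈⁻(2)`.
-/
import Cfsg.Agent.N9.M8D
import Cfsg.Agent.Cls.OrthNeg

set_option autoImplicit false
set_option linter.unusedSectionVars false

namespace CL.N9.M8

open Cfsg Subgroup CL.Even CL.Grp CL.WC CL.Cls QuadraticMap Module Equiv

universe u

namespace CTM
open scoped Matrix

abbrev I : Type := (Fin 3 ⊕ Fin 3) ⊕ Fin 2
abbrev Mx : Type := Matrix I I (ZMod 2)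
abbrev qm : (I → ZMod 2) → ZMod 2 := quadFormMinus 3 (ZMod 2) 1 1

def ix : I → ℕ
  | .inl (.inl i) => i
  | .inl (.inr i) => 3 + i
  | .inr i => 6 + i
/-- the vector with code `c` -/
def dec (c : ℕ) : I → ZMod 2 := fun i => if c.testBit (ix i) then 1 else 0
def enc (v : I → ZMod 2) : ℕ := ∑ i, (v i).val * 2 ^ ix i
def tb (T c : ℕ) : ℕ := (T >>> (8 * c)) % 256
def mx (T : ℕ) : Mx := fun i j => dec (tb T (2 ^ ix j)) i

theorem dec_enc (v : I → ZMod 2) : enc v < 256 ∧ dec (enc v) = v := by revert v; decide +kernel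
theorem enc_dec : ∀ c < 256, enc (dec c) = c := by decide +kernel

/-- the matrix `A` acts on the codes as `f` -/
def Rep (A : Mx) (f : ℕ → ℕ) : Prop := ∀ c < 256, f c < 256 ∧ A *ᵥ dec c = dec (f c)

theorem Rep.one : Rep 1 id := fun _ hc => ⟨hc, Matrix.one_mulVec _⟩
theorem Rep.mul {A B : Mx} {f g : ℕ → ℕ} (h : Rep A f) (k : Rep B g) : Rep (A * B) (f ∘ g) := fun c hc =>
  ⟨(h _ (k c hc).1).1, by rw [← Matrix.mulVec_mulVec, (k c hc).2, (h _ (k c hc).1).2]; rfl⟩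
theorem Rep.pow {A : Mx} {f : ℕ → ℕ} (h : Rep A f) (n : ℕ) : Rep (A ^ n) f^[n] := by
  induction n with
  | zero => rw [pow_zero]; exact Rep.one
  | succ n ih => rw [pow_succ]; exact ih.mul h
theorem Rep.ext {A B : Mx} {f g : ℕ → ℕ} (h : Rep A f) (k : Rep B g) (e : ∀ c < 256, f c = g c) : A = B :=
  Matrix.mulVec_injective (funext fun v => by
    obtain ⟨h1, h2⟩ := dec_enc v
    rw [← h2, (h _ h1).2, (k _ h1).2, e _ h1])

def ts : Fin 7 → ℕ := ![0xdddcdfdedbdad9d8d5d4d7d6d3d2d1d0edecefeeebeae9e8e5e4e7e6e3e2e1e0fdfcfffefbfaf9f8f5f4f7f6f3f2f1f0cdcccfcecbcac9c8c5c4c7c6c3c2c1c09d9c9f9e9b9a99989594979693929190adacafaeabaaa9a8a5a4a7a6a3a2a1a0bdbcbfbebbbab9b8b5b4b7b6b3b2b1b08d8c8f8e8b8a898885848786838281805d5c5f5e5b5a595855545756535251506d6c6f6e6b6a696865646766636261607d7c7f7e7b7a797875747776737271704d4c4f4e4b4a494845444746434241401d1c1f1e1b1a191815141716131211102d2c2f2e2b2a292825242726232221203d3c3f3e3b3a393835343736333231300d0c0f0e0b0a09080504070603020100,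
  0xfffefbfafdfcf9f8f7f6f3f2f5f4f1f0dfdedbdadddcd9d8d7d6d3d2d5d4d1d0efeeebeaedece9e8e7e6e3e2e5e4e1e0cfcecbcacdccc9c8c7c6c3c2c5c4c1c0bfbebbbabdbcb9b8b7b6b3b2b5b4b1b09f9e9b9a9d9c99989796939295949190afaeabaaadaca9a8a7a6a3a2a5a4a1a08f8e8b8a8d8c898887868382858481807f7e7b7a7d7c797877767372757471705f5e5b5a5d5c595857565352555451506f6e6b6a6d6c696867666362656461604f4e4b4a4d4c494847464342454441403f3e3b3a3d3c393837363332353431301f1e1b1a1d1c191817161312151411102f2e2b2a2d2c292827262322252421200f0e0b0a0d0c09080706030205040100,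
  0xeeefedeceaebe9e8f6f7f5f4f2f3f1f0fefffdfcfafbf9f8e6e7e5e4e2e3e1e0cecfcdcccacbc9c8d6d7d5d4d2d3d1d0dedfdddcdadbd9d8c6c7c5c4c2c3c1c0aeafadacaaaba9a8b6b7b5b4b2b3b1b0bebfbdbcbabbb9b8a6a7a5a4a2a3a1a08e8f8d8c8a8b898896979594929391909e9f9d9c9a9b999886878584828381806e6f6d6c6a6b696876777574727371707e7f7d7c7a7b797866676564626361604e4f4d4c4a4b494856575554525351505e5f5d5c5a5b595846474544424341402e2f2d2c2a2b292836373534323331303e3f3d3c3a3b393826272524222321200e0f0d0c0a0b090816171514121311101e1f1d1c1a1b19180607050402030100,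
  0xfffdfefcfbf9faf8efedeeecebe9eae8f7f5f6f4f3f1f2f0e7e5e6e4e3e1e2e0dfdddedcdbd9dad8cfcdcecccbc9cac8d7d5d6d4d3d1d2d0c7c5c6c4c3c1c2c0bfbdbebcbbb9bab8afadaeacaba9aaa8b7b5b6b4b3b1b2b0a7a5a6a4a3a1a2a09f9d9e9c9b999a988f8d8e8c8b898a88979596949391929087858684838182807f7d7e7c7b797a786f6d6e6c6b696a68777576747371727067656664636162605f5d5e5c5b595a584f4d4e4c4b494a48575556545351525047454644434142403f3d3e3c3b393a382f2d2e2c2b292a28373536343331323027252624232122201f1d1e1c1b191a180f0d0e0c0b090a0817151614131112100705060403010200,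
  0xbfbebdbcbbbab9b8b7b6b5b4b3b2b1b0afaeadacabaaa9a8a7a6a5a4a3a2a1a0dbdad9d8dfdedddcd3d2d1d0d7d6d5d4cbcac9c8cfcecdccc3c2c1c0c7c6c5c4fffefdfcfbfaf9f8f7f6f5f4f3f2f1f0efeeedecebeae9e8e7e6e5e4e3e2e1e09b9a99989f9e9d9c93929190979695948b8a89888f8e8d8c83828180878685843b3a39383f3e3d3c33323130373635342b2a29282f2e2d2c23222120272625245f5e5d5c5b5a595857565554535251504f4e4d4c4b4a494847464544434241407b7a79787f7e7d7c73727170777675746b6a69686f6e6d6c63626160676665641f1e1d1c1b1a191817161514131211100f0e0d0c0b0a09080706050403020100,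
  0x7f7e7d7c7b7a797877767574737271706f6e6d6c6b6a696867666564636261605f5e5d5c5b5a595857565554535251504f4e4d4c4b4a49484746454443424140fffefdfcfbfaf9f8f7f6f5f4f3f2f1f0efeeedecebeae9e8e7e6e5e4e3e2e1e0dfdedddcdbdad9d8d7d6d5d4d3d2d1d0cfcecdcccbcac9c8c7c6c5c4c3c2c1c0bfbebdbcbbbab9b8b7b6b5b4b3b2b1b0afaeadacabaaa9a8a7a6a5a4a3a2a1a09f9e9d9c9b9a999897969594939291908f8e8d8c8b8a898887868584838281803f3e3d3c3b3a393837363534333231302f2e2d2c2b2a292827262524232221201f1e1d1c1b1a191817161514131211100f0e0d0c0b0a09080706050403020100,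
  0xbfbebdbc9f9e9d9cb7b6b5b497969594afaeadac8f8e8d8ca7a6a5a487868584bbbab9b89b9a9998b3b2b1b093929190abaaa9a88b8a8988a3a2a1a083828180fffefdfcdfdedddcf7f6f5f4d7d6d5d4efeeedeccfcecdcce7e6e5e4c7c6c5c4fbfaf9f8dbdad9d8f3f2f1f0d3d2d1d0ebeae9e8cbcac9c8e3e2e1e0c3c2c1c07f7e7d7c5f5e5d5c77767574575655546f6e6d6c4f4e4d4c67666564474645447b7a79785b5a595873727170535251506b6a69684b4a494863626160434241403f3e3d3c1f1e1d1c37363534171615142f2e2d2c0f0e0d0c27262524070605043b3a39381b1a191833323130131211102b2a29280b0a09082322212003020100]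

def W0 : List (List (Fin 7)) :=
  [[], [3], [1,3], [2,3], [0,1,3], [6,1,3], [1,2,3], [2,0,1,3], [6,0,1,3], [1,6,1,3], [4,6,1,3], [6,1,2,3], [6,2,0,1,3], [1,6,0,1,3], [4,6,0,1,3],
  [0,1,6,1,3], [3,1,6,1,3], [1,4,6,1,3], [5,4,6,1,3], [1,6,1,2,3], [4,6,1,2,3], [1,6,2,0,1,3], [4,6,2,0,1,3], [0,1,6,0,1,3], [3,1,6,0,1,3],
  [1,4,6,0,1,3], [5,4,6,0,1,3], [3,0,1,6,1,3], [4,0,1,6,1,3], [2,3,1,6,1,3], [0,1,4,6,1,3], [2,1,4,6,1,3], [3,1,4,6,1,3], [5,1,4,6,1,3], [4,5,4,6,1,3],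
  [0,1,6,1,2,3], [3,1,6,1,2,3], [5,4,6,1,2,3], [0,1,6,2,0,1,3], [3,1,6,2,0,1,3], [1,4,6,2,0,1,3], [5,4,6,2,0,1,3], [3,0,1,6,0,1,3], [2,3,1,6,0,1,3],
  [3,1,4,6,0,1,3], [5,1,4,6,0,1,3], [4,5,4,6,0,1,3], [2,3,0,1,6,1,3], [4,3,0,1,6,1,3], [5,4,0,1,6,1,3], [2,0,1,4,6,1,3], [3,0,1,4,6,1,3],
  [5,0,1,4,6,1,3], [3,2,1,4,6,1,3], [5,2,1,4,6,1,3], [2,3,1,4,6,1,3], [5,3,1,4,6,1,3], [5,5,1,4,6,1,3], [3,0,1,6,1,2,3], [4,0,1,6,1,2,3],
  [2,3,1,6,1,2,3], [4,5,4,6,1,2,3], [3,0,1,6,2,0,1,3], [2,3,1,6,2,0,1,3], [3,1,4,6,2,0,1,3], [5,1,4,6,2,0,1,3], [4,5,4,6,2,0,1,3], [2,3,0,1,6,0,1,3],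
  [0,2,3,1,6,0,1,3], [2,3,1,4,6,0,1,3], [5,3,1,4,6,0,1,3], [5,5,1,4,6,0,1,3], [6,5,1,4,6,0,1,3], [4,2,3,0,1,6,1,3], [0,4,3,0,1,6,1,3],
  [1,4,3,0,1,6,1,3], [5,4,3,0,1,6,1,3], [4,5,4,0,1,6,1,3], [3,2,0,1,4,6,1,3], [5,2,0,1,4,6,1,3], [2,3,0,1,4,6,1,3], [5,3,0,1,4,6,1,3],
  [5,3,2,1,4,6,1,3], [5,5,2,1,4,6,1,3], [5,2,3,1,4,6,1,3], [5,5,3,1,4,6,1,3], [2,3,0,1,6,1,2,3], [5,4,0,1,6,1,2,3], [2,3,1,4,6,2,0,1,3],
  [5,3,1,4,6,2,0,1,3], [5,5,1,4,6,2,0,1,3], [6,5,1,4,6,2,0,1,3], [4,0,2,3,1,6,0,1,3], [0,2,3,1,4,6,0,1,3], [5,2,3,1,4,6,0,1,3], [5,5,3,1,4,6,0,1,3],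
  [6,5,3,1,4,6,0,1,3], [5,4,2,3,0,1,6,1,3], [5,0,4,3,0,1,6,1,3], [5,1,4,3,0,1,6,1,3], [4,5,4,3,0,1,6,1,3], [5,3,2,0,1,4,6,1,3], [5,2,3,0,1,4,6,1,3],
  [5,5,3,2,1,4,6,1,3], [5,5,2,3,1,4,6,1,3], [4,5,4,0,1,6,1,2,3], [5,2,3,1,4,6,2,0,1,3], [5,5,3,1,4,6,2,0,1,3], [6,5,3,1,4,6,2,0,1,3],
  [5,4,0,2,3,1,6,0,1,3], [5,0,2,3,1,4,6,0,1,3], [5,5,2,3,1,4,6,0,1,3], [6,5,2,3,1,4,6,0,1,3], [4,5,4,2,3,0,1,6,1,3], [4,5,0,4,3,0,1,6,1,3],
  [5,5,1,4,3,0,1,6,1,3], [5,5,2,3,1,4,6,2,0,1,3], [6,5,2,3,1,4,6,2,0,1,3], [4,5,0,2,3,1,4,6,0,1,3]]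
def W1 : List (List (Fin 7)) :=
  [[], [2], [0,2], [1,2], [4,0,2], [6,0,2], [4,1,2], [6,1,2], [0,4,0,2], [1,4,0,2], [5,4,0,2], [0,6,0,2], [1,6,0,2], [0,4,1,2], [1,4,1,2], [5,4,1,2],
  [0,6,1,2], [1,6,1,2], [2,0,4,0,2], [5,0,4,0,2], [2,1,4,0,2], [5,1,4,0,2], [4,5,4,0,2], [2,0,6,0,2], [2,1,6,0,2], [2,0,4,1,2], [5,0,4,1,2],
  [2,1,4,1,2], [5,1,4,1,2], [4,5,4,1,2], [2,0,6,1,2], [2,1,6,1,2], [0,2,0,4,0,2], [5,2,0,4,0,2], [5,5,0,4,0,2], [6,5,0,4,0,2], [1,2,1,4,0,2],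
  [5,2,1,4,0,2], [0,2,0,6,0,2], [1,2,1,6,0,2], [5,2,0,4,1,2], [4,5,0,4,1,2], [5,2,1,4,1,2], [5,5,1,4,1,2], [5,0,2,0,4,0,2], [6,0,2,0,4,0,2],
  [5,5,2,0,4,0,2], [6,5,2,0,4,0,2], [5,1,2,1,4,0,2], [6,1,2,1,4,0,2], [4,5,2,0,4,1,2], [5,5,2,1,4,1,2], [4,5,0,2,0,4,0,2], [5,5,0,2,0,4,0,2],
  [6,5,0,2,0,4,0,2], [1,6,0,2,0,4,0,2], [5,6,0,2,0,4,0,2], [1,6,5,2,0,4,0,2], [4,5,1,2,1,4,0,2], [6,5,1,2,1,4,0,2], [5,6,1,2,1,4,0,2],
  [5,4,5,0,2,0,4,0,2], [1,6,5,0,2,0,4,0,2], [2,1,6,0,2,0,4,0,2]]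
def W2 : List (List (Fin 7)) :=
  [[], [1], [0,1], [6,1], [6,0,1], [1,6,1], [4,6,1], [1,6,0,1], [4,6,0,1], [0,1,6,1], [1,4,6,1], [5,4,6,1], [0,1,6,0,1], [1,4,6,0,1], [5,4,6,0,1],
  [4,0,1,6,1], [0,1,4,6,1], [5,1,4,6,1], [4,5,4,6,1], [5,1,4,6,0,1], [4,5,4,6,0,1], [5,4,0,1,6,1], [5,0,1,4,6,1], [5,5,1,4,6,1], [5,5,1,4,6,0,1],
  [6,5,1,4,6,0,1], [4,5,4,0,1,6,1]]
def W3 : List (List (Fin 7)) :=
  [[], [0], [4,0], [6,0], [0,4,0], [5,4,0], [0,6,0], [5,0,4,0], [6,0,4,0], [4,5,4,0], [4,5,0,4,0], [5,5,0,4,0], [6,5,0,4,0], [0,6,0,4,0], [5,6,0,4,0],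
  [5,4,5,0,4,0]]
def W4 : List (List (Fin 7)) :=
  [[], [6], [4,6], [5,4,6], [4,5,4,6]]
def W5 : List (List (Fin 7)) :=
  [[], [4], [5,4], [4,5,4]]
def W6 : List (List (Fin 7)) :=
  [[], [5], [5,5]]

theorem rep_ts : ∀ i, Rep (mx (ts i)) (tb (ts i)) := by unfold Rep; decide +kernel
theorem iso_ts : ∀ i, ∀ c < 256, qm (dec (tb (ts i) c)) = qm (dec c) := by
  unfold qm quadFormMinus; decide +kernel
theorem ord_ts : ∀ i, ∀ c < 256, (tb (ts i))^[6] c = c := by decide +kernel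

/-- the value of a word -/
def ev (w : List (Fin 7)) (c : ℕ) : ℕ := w.foldr (fun i c => tb (ts i) c) c

section
variable {G : Type*} [Group G] {ρ : G →* Mx} {g : Fin 7 → G}

theorem rep_ev (hg : ∀ i, ρ (g i) = mx (ts i)) (w : List (Fin 7)) : Rep (ρ (w.map g).prod) (ev w) := by
  induction w with
  | nil => rw [List.map_nil, List.prod_nil, map_one]; exact Rep.one
  | cons i w ih => rw [List.map_cons, List.prod_cons, map_mul, hg]; exact (rep_ts i).mul ih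

theorem rel (hρ : Function.Injective ρ) (hg : ∀ i, ρ (g i) = mx (ts i)) (v w : List (Fin 7))
    (e : ∀ c < 256, ev v c = ev w c) : (v.map g).prod = (w.map g).prod :=
  hρ ((rep_ev hg v).ext (rep_ev hg w) e)

theorem ct_of (hρ : Function.Injective ρ) (hg : ∀ i, ρ (g i) = mx (ts i)) :
    CT (g 0) (g 1) (g 2) (g 3) (g 4) (g 5) (g 6) := by
  have sq : ∀ i, (∀ c < 256, ev [i, i] c = ev [] c) → g i * g i = 1 := fun i e => by simpa using rel hρ hg _ _ e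
  have cb : ∀ i j, (∀ c < 256, ev [i, j, i, j, i, j] c = ev [] c) → (g i * g j) ^ 3 = 1 := fun i j e => by
    simpa [pow_succ, mul_assoc] using rel hρ hg _ _ e
  have cm : ∀ i j, (∀ c < 256, ev [i, j] c = ev [j, i] c) → Commute (g i) (g j) := fun i j e => by
    simpa [Commute, SemiconjBy] using rel hρ hg _ _ e
  refine ⟨sq _ ?_, sq _ ?_, sq _ ?_, sq _ ?_, sq _ ?_, sq _ ?_,
    by simpa [pow_succ, mul_assoc] using rel hρ hg [5, 5, 5] [] (by decide +kernel),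
    cb _ _ ?_, cb _ _ ?_, cb _ _ ?_, cb _ _ ?_,
    by simpa [pow_succ, mul_assoc] using rel hρ hg [6, 5, 6, 5] [] (by decide +kernel),
    cm _ _ ?_, cm _ _ ?_, cm _ _ ?_, cm _ _ ?_, cm _ _ ?_, cm _ _ ?_, cm _ _ ?_, cm _ _ ?_,
    by simpa only [List.map, List.prod_cons, List.prod_nil, mul_one, mul_assoc] using
      rel hρ hg [3, 0, 3] [2, 0, 2, 0] (by decide +kernel),
    by simpa only [List.map, List.prod_cons, List.prod_nil, mul_one, mul_assoc] using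
      rel hρ hg [1, 2, 1] [2, 0, 2, 0] (by decide +kernel),
    by simpa only [Commute, SemiconjBy, List.map, List.prod_cons, List.prod_nil, mul_one, mul_assoc] using
      rel hρ hg [1, 6, 0, 6] [6, 0, 6, 1] (by decide +kernel),
    by simpa only [List.map, List.prod_cons, List.prod_nil, mul_one, mul_assoc] using
      rel hρ hg [1, 4, 1] [4, 0, 4, 0, 6, 0, 6] (by decide +kernel),
    cb _ _ ?_,
    by simpa [pow_succ, mul_assoc] using rel hρ hg [1, 6, 1, 6, 1, 6, 1, 6] [] (by decide +kernel)⟩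
  all_goals decide +kernel

/-- the subgroup generated by some of the letters -/
def K (g : Fin 7 → G) (S : List (Fin 7)) : Subgroup G := closure {x | ∃ i ∈ S, g i = x}

theorem step (hρ : Function.Injective ρ) (hg : ∀ i, ρ (g i) = mx (ts i)) (S S' : List (Fin 7)) (c : ℕ)
    (W : List (List (Fin 7))) (n : ℕ) (h : c < 256 ∧ (∀ i ∈ S', i ∈ S ∧ tb (ts i) c = c) ∧ (∀ w ∈ W, ∀ i ∈ w, i ∈ S) ∧
      (W.map (ev · c)).Nodup ∧ W.length = n) : n * Nat.card (K g S') ≤ Nat.card (K g S) := by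
  obtain ⟨hc, h1, h2, h3, rfl⟩ := h
  have : Finite G := Finite.of_injective _ hρ
  have hle : K g S' ≤ K g S := closure_mono fun x ⟨i, hi, e⟩ => ⟨i, (h1 i hi).1, e⟩
  have hfix : ∀ x ∈ K g S', ρ x *ᵥ dec c = dec c := by
    intro x hx
    induction hx using closure_induction with
    | mem x hx =>
      obtain ⟨i, hi, rfl⟩ := hx
      rw [hg, (rep_ts i c hc).2, (h1 i hi).2]
    | one => rw [map_one, Matrix.one_mulVec]
    | mul x y _ _ hx hy => rw [map_mul, ← Matrix.mulVec_mulVec, hy, hx]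
    | inv x _ hx => conv_lhs => rw [← hx, Matrix.mulVec_mulVec, ← map_mul, inv_mul_cancel, map_one, Matrix.one_mulVec]
  have hW : ∀ k : Fin W.length, ((W.get k).map g).prod ∈ K g S := fun k =>
    list_prod_mem fun x hx => by
      obtain ⟨i, hi, rfl⟩ := List.mem_map.1 hx
      exact subset_closure ⟨i, h2 _ (List.get_mem W k) i hi, rfl⟩
  have key : ∀ (k : Fin W.length) (x : K g S'), enc (ρ (((W.get k).map g).prod * x) *ᵥ dec c) = ev (W.get k) c :=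
    fun k x => by
      rw [map_mul, ← Matrix.mulVec_mulVec, hfix _ x.2, (rep_ev hg _ c hc).2, enc_dec _ (rep_ev hg _ c hc).1]
  have inj : Function.Injective fun p : Fin W.length × K g S' =>
      (⟨((W.get p.1).map g).prod * p.2, mul_mem (hW p.1) (hle p.2.2)⟩ : K g S) := by
    rintro ⟨k, x⟩ ⟨l, y⟩ e
    have e1 : ((W.get k).map g).prod * x = ((W.get l).map g).prod * y := congrArg Subtype.val e
    have e2 : ev (W.get k) c = ev (W.get l) c := by rw [← key k x, ← key l y, e1]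
    have e3 : k = l := by
      have h4 := List.nodup_iff_injective_get.1 (List.Nodup.of_map _ h3)
      exact h4 (List.inj_on_of_nodup_map h3 (List.get_mem W k) (List.get_mem W l) e2)
    subst e3
    exact Prod.ext rfl (Subtype.ext (mul_left_cancel e1))
  simpa using Nat.card_le_card_of_injective _ inj

theorem lb_of (hρ : Function.Injective ρ) (hg : ∀ i, ρ (g i) = mx (ts i)) :
    197406720 ≤ Nat.card (gen (g 0) (g 1) (g 2) (g 3) (g 4) (g 5) (g 6)) := by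
  have : Finite G := Finite.of_injective _ hρ
  have h0 := step hρ hg [0, 1, 2, 3, 4, 5, 6] [0, 1, 2, 4, 5, 6] 1 W0 119 (by decide +kernel)
  have h1 := step hρ hg [0, 1, 2, 4, 5, 6] [0, 1, 4, 5, 6] 8 W1 64 (by decide +kernel)
  have h2 := step hρ hg [0, 1, 4, 5, 6] [0, 4, 5, 6] 2 W2 27 (by decide +kernel)
  have h3 := step hρ hg [0, 4, 5, 6] [4, 5, 6] 16 W3 16 (by decide +kernel)
  have h4 := step hρ hg [4, 5, 6] [4, 5] 4 W4 5 (by decide +kernel)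
  have h5 := step hρ hg [4, 5] [5] 32 W5 4 (by decide +kernel)
  have h6 := step hρ hg [5] [] 64 W6 3 (by decide +kernel)
  have h7 : 0 < Nat.card (K g []) := Nat.card_pos
  have h8 : Nat.card (K g [0, 1, 2, 3, 4, 5, 6]) ≤ Nat.card (gen (g 0) (g 1) (g 2) (g 3) (g 4) (g 5) (g 6)) := by
    refine card_le_of_le (closure_mono ?_)
    rintro _ ⟨i, -, rfl⟩
    fin_cases i <;> simp
  omega

theorem mem_comm {b m a₀ n₀ a h n : G} (c : CT b m a₀ n₀ a h n) : b ∈ commutator G ∧ m ∈ commutator G ∧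
    a₀ ∈ commutator G ∧ n₀ ∈ commutator G ∧ a ∈ commutator G ∧ h ∈ commutator G ∧ n ∈ commutator G := by
  simp only [← Abelianization.ker_of, MonoidHom.mem_ker]
  set φ := (Abelianization.of : G →* Abelianization G)
  have sq : ∀ {x : G}, x * x = 1 → φ x * φ x = 1 := fun e => by rw [← map_mul, e, map_one]
  have cv : ∀ {x : G} (y : G), x * x = 1 → φ (x * y * x) = φ y := fun {x} y e => by
    rw [map_mul, map_mul, mul_right_comm, sq e, one_mul]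
  have od : ∀ {x : G}, φ x ^ 2 = 1 → φ x ^ 3 = 1 → φ x = 1 := fun e1 e2 => by rwa [pow_succ, e1, one_mul] at e2
  have cb : ∀ {x y : G} {k : ℕ}, φ x = 1 → (x * y) ^ k = 1 → φ y ^ k = 1 := fun {x y k} e1 e2 => by
    have := congrArg φ e2
    rwa [map_pow, map_mul, e1, one_mul, map_one] at this
  have e0 : φ (a₀ * b * a₀ * b) = 1 := by rw [map_mul, cv _ c.a₀sq, sq c.bsq]
  have hb : φ b = 1 := by rw [← cv b c.n₀sq, c.nb, e0]
  have ha₀ : φ a₀ = 1 := by rw [← cv a₀ c.msq, c.ma₀, e0]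
  have ha : φ a = 1 := by rw [← cv a c.msq, c.ma, map_mul, cv _ c.nsq, map_mul, cv _ c.asq, hb, one_mul, one_mul]
  have hn : φ n = 1 := od (by rw [pow_two, sq c.nsq]) (cb ha c.ord)
  exact ⟨hb, od (by rw [pow_two, sq c.msq]) (cb hb c.bm), ha₀, od (by rw [pow_two, sq c.n₀sq]) (cb ha₀ c.ord₀), ha,
    od (cb hn c.nh) (by rw [← map_pow, c.h3, map_one]), hn⟩

end

/-- the generators as isometries -/
def gO (i : Fin 7) : isometryGroup (ZMod 2) qm :=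
  have h : mx (ts i) ^ 6 = 1 := ((rep_ts i).pow 6).ext Rep.one (ord_ts i)
  ⟨⟨mx (ts i), mx (ts i) ^ 5, by rw [← pow_succ', h], by rw [← pow_succ, h]⟩, fun u _ => by
    obtain ⟨h1, h2⟩ := dec_enc u
    show qm (mx (ts i) *ᵥ u) = qm u
    rw [← h2, (rep_ts i _ h1).2, iso_ts i _ h1]⟩

def ρO : isometryGroup (ZMod 2) qm →* Mx := (Units.coeHom Mx).comp (isometryGroup (ZMod 2) qm).subtype

theorem ρO_inj : Function.Injective ρO := Units.val_injective.comp Subtype.val_injective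

theorem ρO_gO (i : Fin 7) : ρO (gO i) = mx (ts i) := rfl

theorem gO_mem (i : Fin 7) : gO i ∈ Omega (ZMod 2) qm := by
  obtain ⟨h0, h1, h2, h3, h4, h5, h6⟩ := mem_comm (ct_of ρO_inj ρO_gO)
  have h : ∀ i : Fin 7, i = 0 ∨ i = 1 ∨ i = 2 ∨ i = 3 ∨ i = 4 ∨ i = 5 ∨ i = 6 := by decide
  rcases h i with rfl | rfl | rfl | rfl | rfl | rfl | rfl
  exacts [h0, h1, h2, h3, h4, h5, h6]

theorem cen_bot {X Y : Type*} [Group X] [Group Y] (e : X ≃* Y) (h : center Y = ⊥) : center X = ⊥ := by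
  refine eq_bot_iff.2 fun x hx => mem_bot.2 (e.injective ?_)
  rw [map_one, ← mem_bot, ← h]
  refine mem_center_iff.2 fun y => ?_
  obtain ⟨y, rfl⟩ := e.surjective y
  rw [← map_mul, ← map_mul]
  exact congrArg e (mem_center_iff.1 hx y)

theorem cenO : center (Omega (ZMod 2) qm) = ⊥ :=
  cen_bot (omegaEquiv (qfMinus 3 (ZMod 2) 1 1))
    (center_commutator_eq_bot (nondeg_qfMinus (m := 3) (F := ZMod 2) 1 1 (by decide)) (by simp) (Or.inl rfl))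

theorem fin {X Y : Type*} [Group X] [Group Y] (e : X ≃* Y) {ρ : Y →* Mx} (hρ : Function.Injective ρ) (g : Fin 7 → Y)
    (hg : ∀ i, ρ (g i) = mx (ts i)) :
    ∃ b m a₀ n₀ a h n : X, CT b m a₀ n₀ a h n ∧ 197406720 ≤ Nat.card (gen b m a₀ n₀ a h n) := by
  have h1 : Function.Injective (ρ.comp e.toMonoidHom) := hρ.comp e.injective
  have h2 : ∀ i, (ρ.comp e.toMonoidHom) (e.symm (g i)) = mx (ts i) := fun i =>
    (congrArg ρ (e.apply_symm_apply (g i))).trans (hg i)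
  have h3 := ct_of (g := fun i => e.symm (g i)) h1 h2
  have h4 := lb_of (g := fun i => e.symm (g i)) h1 h2
  exact ⟨_, _, _, _, _, _, _, And.intro h3 h4⟩

end CTM

open CTM in
theorem ctm : CTM :=
  CTM.fin ((QuotientGroup.quotientMulEquivOfEq cenO).trans QuotientGroup.quotientBot)
    (ρ := ρO.comp (Omega (ZMod 2) qm).subtype) (ρO_inj.comp Subtype.val_injective) (fun i => ⟨gO i, gO_mem i⟩) ρO_gO

end CL.N9.M8
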