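import Cfsg.Agent.Spor.TCSound

/-! coset enumeration certificate generated by tools/tc -/

set_option maxRecDepth 100000
set_option autoImplicit false
set_option linter.all false

namespace CL.TC.M8A5

noncomputable def rows0 : Tr ℕ := (.node (nat_lit 2) (.node (nat_lit 1) (.leaf (nat_lit 0xfb03ff906fb41ff31e57fc837c621f6047e63af7f31cfcc6fee09fe4183fc623f98d7e633fc8287fcc63e312fcc5ff9040ff6057f207f6827e62caff903f8c2fec05fcc55efe629f989fc61dfc8187fb01ff902f8c3ff31257fc817c611f1887e622f7f310fcc3ff902fcc38cfd809fc80fc615f986abfe407e305f8c2ff30c7bf985fe615fc80fe61267f308fcc1ff306fe4043fe60bf9827e607f98100)) (.leaf (nat_lit 0xf2c9fde17fe44bd32b33ef0cf9651fc88fa65a67e329fccbbf32dfe4403fe659f1957e657fc8787fb06ff90ef744ff32a57fc877c639ee0a7e652f7f90df9447e328f7061efe651e98fff21be99199f904bf90cf8c9fd31a57e9907e64ffc867a64a67e321fcc9bf325fe42c3fe649f1917e647fc8507fb04ff909f4c6ff32257fc84fc629e98e7e642f7ed0cf6c63f320fe4203fb635f606fe63ffc8387)))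 (.node (nat_lit 1) (.leaf (nat_lit 0xf2cc7de23fe48bc33533ef12f9665fc90f866c67f91ef94a7e338f70b1efe671e99aff23dee8f99f90abf91df8cdfd32e57e99b7e66ffc8efba4067ed1df6cb3f336fe4703fb65df60f7e66bfc8d87f507ff919fb46bf33457fc8bfaa41f60c7e666f7f916f9487e332f7091efe665e997ff22dee8b99f908bf915f8cc7d32657e9987e663fc8afba3267ed15f6c93f330fe4503fb64df60b7e65ffc8987)) (.leaf (nat_lit 0xfe4d3c539ef0efc4387be21d7f267d99e78c6eafcd33eecefce39fe4c83f7679e61a78675fc9887f50d7f92dfb4bbbb3c57fc95faa6df61677676f7cb37f78aff92af34bccfbc5be59c7f253e69819f0ce7f33cf38cff9280ff99df8675e19a7f24e1fd42ffe497ed26fcce95ff247ea987d849f99cbd))))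
noncomputable def recs0 : Tr ℕ := (.leaf (nat_lit 0x0))
noncomputable def rows : Tr ℕ := rows0
noncomputable def recs : Tr ℕ := recs0
noncomputable def ci0 : CI := ⟨[], (nat_lit 0), false, (.node (nat_lit 1) (.leaf Rule.defn) (.leaf Rule.copy)), (.leaf (XRule.rot (nat_lit 0) [] 8 0))⟩
noncomputable def ci7 : CI := ⟨[0], (nat_lit 7), false, (.node (nat_lit 4) (.node (nat_lit 2) (.node (nat_lit 1) (.leaf Rule.defn) (.leaf Rule.copy)) (.node (nat_lit 1) (.leaf (Rule.fwd [nat_lit 7] 8 0)) (.leaf (Rule.fwd [nat_lit 43, nat_lit 7, nat_lit 43, nat_lit 7, nat_lit 43] 2 0)))) (.node (nat_lit 1) (.leaf (Rule.fwd [nat_lit 25, nat_lit 7, nat_lit 25, nat_lit 7, nat_lit 25] 4 0)) (.leaf (Rule.fwd [nat_lit 61, nat_lit 7, nat_lit 61, nat_lit 7, nat_lit 61] 3 1)))), (.node (nat_lit 1) (.leaf XRule.defn) (.leaf XRule.defn))⟩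
noncomputable def ci25 : CI := ⟨[1], (nat_lit 25), false, (.node (nat_lit 4) (.node (nat_lit 2) (.node (nat_lit 1) (.leaf Rule.defn) (.leaf Rule.copy)) (.node (nat_lit 1) (.leaf (Rule.fwd [nat_lit 25] 8 0)) (.leaf (Rule.fwd [nat_lit 43, nat_lit 25, nat_lit 43] 6 0)))) (.node (nat_lit 1) (.leaf (Rule.fwd [nat_lit 61, nat_lit 25, nat_lit 61] 7 1)) (.leaf (Rule.fwd [nat_lit 7, nat_lit 25, nat_lit 7, nat_lit 25, nat_lit 7] 4 1)))), (.node (nat_lit 1) (.leaf XRule.defn) (.leaf XRule.defn))⟩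
noncomputable def ci43 : CI := ⟨[2], (nat_lit 61), false, (.node (nat_lit 4) (.node (nat_lit 2) (.node (nat_lit 1) (.leaf Rule.defn) (.leaf Rule.copy)) (.node (nat_lit 1) (.leaf (Rule.fwd [nat_lit 61] 8 0)) (.leaf (Rule.fwd [nat_lit 7, nat_lit 43, nat_lit 7, nat_lit 43, nat_lit 7] 2 1)))) (.node (nat_lit 1) (.leaf (Rule.fwd [nat_lit 43, nat_lit 43] 0 0)) (.leaf (Rule.fwd [nat_lit 25, nat_lit 43, nat_lit 25] 6 1)))), (.node (nat_lit 1) (.leaf XRule.defn) (.leaf XRule.defn))⟩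
noncomputable def ci61 : CI := ⟨[3], (nat_lit 43), false, (.node (nat_lit 4) (.node (nat_lit 2) (.node (nat_lit 1) (.leaf Rule.defn) (.leaf Rule.copy)) (.node (nat_lit 1) (.leaf (Rule.fwd [nat_lit 43] 8 0)) (.leaf (Rule.fwd [nat_lit 61, nat_lit 61] 1 0)))) (.node (nat_lit 1) (.leaf (Rule.fwd [nat_lit 7, nat_lit 61, nat_lit 7, nat_lit 61, nat_lit 7] 3 0)) (.leaf (Rule.fwd [nat_lit 25, nat_lit 61, nat_lit 25] 7 0)))), (.node (nat_lit 1) (.leaf XRule.defn) (.leaf XRule.defn))⟩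
noncomputable def outer : Tr CI := (.node (nat_lit 2) (.node (nat_lit 1) (.leaf ci0) (.node (nat_lit 4) (.leaf ci25) (.leaf ci61))) (.node (nat_lit 4) (.leaf ci43) (.leaf ci7)))
def cols : List ℕ := [nat_lit 7, nat_lit 25, nat_lit 43, nat_lit 61]
def invL : List ℕ := [0, 1, 3, 2]
def rels : List (List ℕ) := [[2, 2, 2], [0, 2, 0, 2, 0, 2], [0, 1, 0, 1, 0, 1], [1, 2, 1, 2]]
def subs : List (List ℕ) := []
noncomputable def row (n : ℕ) : ℕ := rowOf (fun h => rows.get h) (nat_lit 4) (nat_lit 15) (nat_lit 79) (nat_lit 0x7fffffffffffffffffff) n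
noncomputable def xleaf (h : ℕ) : ℕ := recs.get h
noncomputable def mF : ℕ → ℕ := mainRow row (rowChk row xleaf outer (nat_lit 8) (nat_lit 255) (nat_lit 7) (nat_lit 11) (nat_lit 2047) (nat_lit 262143) (nat_lit 128) (nat_lit 60) (nat_lit 256) (nat_lit 7) (nat_lit 127) (nat_lit 15) (nat_lit 32767) (nat_lit 8) (nat_lit 255) cols)
noncomputable def xF : ℕ → ℕ → ℕ := xLeaf row xleaf outer (nat_lit 255) (nat_lit 11) (nat_lit 262143) (nat_lit 128) (nat_lit 60) (nat_lit 7) (nat_lit 127) (nat_lit 15) (nat_lit 32767) (nat_lit 32640) (nat_lit 8) (nat_lit 255) (nat_lit 10) (nat_lit 1023) (nat_lit 2) (nat_lit 3) (nat_lit 61) (nat_lit 7680) (nat_lit 128)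
noncomputable def cert : Cert := ⟨row, xleaf, outer, cols, nat_lit 8, nat_lit 255, nat_lit 7, nat_lit 11, nat_lit 2047, nat_lit 262143, nat_lit 128, nat_lit 60, nat_lit 256, nat_lit 7, nat_lit 127, nat_lit 15, nat_lit 32767, nat_lit 32640, nat_lit 8, nat_lit 255, nat_lit 10, nat_lit 1023, nat_lit 2, nat_lit 3, nat_lit 61, nat_lit 7680, nat_lit 128, nat_lit 18, nat_lit 128, nat_lit 1⟩
theorem tabok : tabOK (fun i => invL.getD i i) rels subs outer cols (nat_lit 7) (nat_lit 61) = true := by decide +kernel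
theorem m0 : rng mF (nat_lit 1) (nat_lit 60) = 0 := by decide +kernel
noncomputable def s0 : List ℕ := [nat_lit 0x0]
theorem x0 : xs xF s0 (nat_lit 1) = 0 := by decide +kernel
theorem mz0 : AllZ mF 1 (nat_lit 61) := (AllZ.step (AllZ.nil mF 1) (nat_lit 60) (nat_lit 61) rfl m0)
theorem xz0 : XZ xF (nat_lit 1) := (XZ.step (XZ.nil xF) s0 (nat_lit 1) (nat_lit 1) (by decide +kernel) x0)
/-- the certificate (60 points) is valid -/
theorem valid : cert.Valid (fun i => invL.getD i i) rels subs 4 :=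
  ⟨by decide +kernel, tabok, by decide +kernel, mz0, xz0⟩
theorem cert_N : cert.N = 60 := rfl

end CL.TC.M8A5
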