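/-
Project N9 (S1763): the commuting relation from the generalised quadrangle.
-/
import Cfsg.Agent.N9.PD
import Cfsg.Agent.P8.GQU

set_option autoImplicit false
set_option linter.unusedSectionVars false

namespace CL.N9.P

open Cfsg Subgroup CL.P8 CL.P8.GQU

universe u

namespace PGQ2

variable {G : Type u} [Group G] {ι : Γ0 →* G}

theorem lift (hf : NL ι) {p p' : NN ι} (hp : IsConj (pt ι 0) p) (hp' : IsConj (pt ι 0) p')
    (e : (p : NB ι) = p') : p = p' := by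
  obtain ⟨n, rfl⟩ := isConj_iff.1 hp
  have he : _ ∈ EE ι := QuotientGroup.eq.1 e
  obtain ⟨c, rfl⟩ : ∃ c, p' = n * pt ι 0 * n⁻¹ * c := ⟨_, (mul_inv_cancel_left _ _).symm⟩
  rw [inv_mul_cancel_left] at he
  have h1 : Commute n c := Subtype.ext (EE_comm (e := (c : G)) he n.2).eq
  have h2 : IsConj (pt ι 0) (pt ι 0 * c) := hp'.trans (isConj_iff.2 ⟨n⁻¹, by
    rw [inv_inv, mul_assoc, mul_assoc, ← h1.eq]; group⟩)
  rw [show c = 1 from Subtype.ext (hf.nz _ he ((NN ι).subtype.map_isConj h2)), mul_one]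

theorem lift2 (hf : NL ι) {p m : NN ι} (hp : IsConj (pt ι 0) p)
    (e : Commute (m : NB ι) p) : Commute (m : G) p := by
  have := PGQ2.lift hf (hp.trans (isConj_iff.2 ⟨m, rfl⟩)) hp (by
    rw [QuotientGroup.mk_mul, QuotientGroup.mk_mul, e.eq, QuotientGroup.mk_inv, mul_inv_cancel_right])
  exact congrArg Subtype.val (mul_inv_eq_iff_eq_mul.1 this)

end PGQ2

theorem gq2 : GQ2.{u} := by
  intro G _ _ ι S hf k hk G1 G2
  have h := S.st
  let K : NN ι := ⟨k, mem_NN.2 ⟨mul_inv_eq_iff_eq_mul.1 hk.e1, mul_inv_eq_iff_eq_mul.1 hk.e2⟩⟩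
  have p0 : IsConj (⟨ι w1, CE_NN ι wCE⟩ : NN ι) (pt ι 0) := isConj_iff.2 ⟨K, Subtype.ext hk.w1⟩
  have pp : ∀ i, IsConj (pt ι 0) (pt ι i) := fun i => by
    by_cases hi : i = 0
    · rw [hi]
    · exact p0.symm.trans (isConj_iff.2 ⟨⟨_, CE_NN ι (cCE i)⟩, Subtype.ext (by
        have := congrArg ι (cx i hi)
        rwa [map_mul, map_mul, map_inv] at this)⟩)
  have bar : ∀ {p : NN ι}, IsConj (pt ι 0) p → IsConj (zb ι) (p : NB ι) := fun hp =>
    (QuotientGroup.mk' (EE ι)).map_isConj hp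
  have cm : ∀ i j, Commute (pt ι i : NB ι) (pt ι j) := fun i j =>
    (show Commute (pt ι i) (pt ι j) from Subtype.ext ((show Commute _ _ from xc i j).map ι).eq).map
      (QuotientGroup.mk' (EE ι))
  have inj : Function.Injective fun i => (pt ι i : NB ι) := fun i j e => by_contra fun n =>
    xn i j n (mul_inv_eq_one.2 (h.inj (congrArg Subtype.val (PGQ2.lift hf (pp i) (pp j) e))))
  have five : ∀ i j, i ≠ j → ∀ d, IsConj (zb ι) d → Commute d (pt ι i) → Commute d (pt ι j) →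
      ∃ l, (pt ι l : NB ι) = d := fun i j n d d1 d2 d3 =>
    (Set.eq_of_subset_of_ncard_le (s := Set.range fun i => (pt ι i : NB ι))
      (by rintro _ ⟨l, rfl⟩; exact ⟨bar (pp l), cm l i, cm l j⟩)
      ((G2 _ _ (bar (pp i)) (bar (pp j)) (inj.ne n) (cm i j)).trans (by
        rw [Set.ncard_range_of_injective inj]; simp))).ge ⟨d1, d2, d3⟩
  have pq : IsConj (pt ι 0) (K * pt ι 1 * K⁻¹) := (pp 1).trans (isConj_iff.2 ⟨K, rfl⟩)
  have up : ∀ l, Commute ((K * pt ι 1 * K⁻¹ : NN ι) : NB ι) (pt ι l) → Commute (k * ι x1 * k⁻¹) (ι (g (xs l))) :=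
    fun l e => PGQ2.lift2 hf (pp l) e
  have n0 : ¬ Commute (k * ι x1 * k⁻¹) (ι P8.z) := fun e => wx (h.inj (by
    rw [← hk.w1] at e
    have := (e.map (MulAut.conj k⁻¹)).eq
    simp only [MulAut.conj_apply, inv_inv, mul_assoc, inv_mul_cancel_left, inv_mul_cancel, mul_one] at this
    simp only [map_mul, map_inv, map_one, this, mul_inv_cancel_right, mul_inv_cancel]))
  obtain ⟨d, d0, d1, d2, d3⟩ := G1 _ _ _ (bar pq) (bar (pp 0)) (bar (pp 1)) (inj.ne (by decide)) (cm 0 1)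
  obtain ⟨l, rfl⟩ := five 0 1 (by decide) d d0 d2 d3
  have c1 : Commute (ι k1) (k * ι x1 * k⁻¹) := by
    rw [← hk.t1]
    exact ((show Commute t1 x1 from rel (X.t1 * X.x1) (X.x1 * X.t1) (by decide +kernel)).map ι).map (MulAut.conj k)
  have sw : ∀ {x y}, k1 * x * k1⁻¹ = y → Commute (k * ι x1 * k⁻¹) (ι x) → Commute (k * ι x1 * k⁻¹) (ι y) :=
    fun e c => by rw [← e, map_mul, map_mul, map_inv]; exact (c1.symm.mul_right c).mul_right c1.symm.inv_right
  have fin : Commute (k * ι x1 * k⁻¹) (ι x3) → Commute (k * ι x1 * k⁻¹) (ι x4) → False := fun a b => by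
    have m : ∀ l, Commute (k * ι x1 * k⁻¹) (ι (g (xs l))) → Commute ((K * pt ι 1 * K⁻¹ : NN ι) : NB ι) (pt ι l) :=
      fun l c => (show Commute (K * pt ι 1 * K⁻¹) (pt ι l) from Subtype.ext c.eq).map (QuotientGroup.mk' (EE ι))
    obtain ⟨l, e⟩ := five 3 4 (by decide) _ (bar pq) (m 3 a) (m 4 b)
    exact n0 (up 0 (e ▸ cm l 0))
  have c := up l d1.symm
  fin_cases l
  · exact absurd c n0
  · exact .inl c
  · exact .inr c
  · exact (fin c (sw (rel (X.k1 * X.x3 * X.k1⁻¹) X.x4 (by decide +kernel)) c)).elim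
  · exact (fin (sw (rel (X.k1 * X.x4 * X.k1⁻¹) X.x3 (by decide +kernel)) c) c).elim

end CL.N9.P
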