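/-
S1763 (job N9-PNA, helper74): the image of `TT` in `N / E`.
-/
import Cfsg.Agent.N9.PD
import Cfsg.Agent.P8.NA

set_option autoImplicit false
set_option linter.unusedSectionVars false

namespace CL.N9.P

open Cfsg Subgroup CL.Even CL.Grp CL.WC CL.P8 CL.P8.NA

universe u

namespace PNAx

theorem nat0 {G : Type u} [Group G] [Finite G] {ι : Γ0 →* G} (h : St0 ι) (hn : NL ι) : SylM ι := by
  have cT : Nat.card (TT.map ι) = 256 := by rw [card_map_of_injective h.inj, card_TT]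
  have hT : TT.map ι ≤ NN ι := fun _ ⟨_, hx, e⟩ => e ▸ CE_NN ι (TT_le hx)
  let S' : Subgroup (NN ι) := (TT.map ι).subgroupOf _
  let S : Subgroup (NB ι) := S'.map (QuotientGroup.mk' (EE ι))
  have mS : ∀ s, s ∈ (S : Subgroup (NB ι)) ↔ ∃ x ∈ TT, ∃ m, ν ι ⟨x, m⟩ = s := fun s => by
    constructor
    · rintro ⟨x, ⟨y, hy, e⟩, e'⟩
      exact ⟨y, hy, TT_le hy, (congrArg (QuotientGroup.mk' (EE ι))
        (show (⟨ι y, CE_NN ι (TT_le hy)⟩ : NN ι) = x from Subtype.ext e)).trans e'⟩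
    · rintro ⟨x, hx, m, e⟩
      exact ⟨⟨ι x, CE_NN ι m⟩, ⟨x, hx, rfl⟩, e⟩
  have one_iff : ∀ x : CE, ν ι x = 1 ↔ ι x ∈ closure {ι e1, ι e2} := fun x =>
    QuotientGroup.eq_one_iff (N := EE ι) ⟨ι x, CE_NN ι x.2⟩
  have eq : (S : Subgroup (NB ι)) = (TT.subgroupOf CE).map (ν ι) := Subgroup.ext fun s => (mS s).trans
    ⟨fun ⟨x, hx, m, e⟩ => ⟨⟨x, m⟩, hx, e⟩, fun ⟨x, hx, e⟩ => ⟨x, hx, x.2, e⟩⟩
  have zE : ι z ∉ closure {ι e1, ι e2} := hn.nE _ (IsConj.refl _)
  have z1 : zb ι ≠ 1 := fun e => zE ((one_iff _).1 e)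
  have cen : ∀ s ∈ (S : Subgroup (NB ι)), s * zb ι = zb ι * s := fun s hs => by
    obtain ⟨x, hx, m, rfl⟩ := (mS s).1 hs
    rw [zb, ← map_mul, ← map_mul]; exact congrArg _ (Subtype.ext (TT_z hx))
  have mem : zb ι ∈ (S : Subgroup (NB ι)) := (mS _).2 ⟨z, T1_le z_T1, z_CE, rfl⟩
  let f : T1 →* NB ι := (ν ι).comp (inclusion (T1_le.trans TT_le))
  have fr : f.range = S := by
    refine le_antisymm (fun _ ⟨x, e⟩ => (mS _).2 ⟨x, T1_le x.2, _, e⟩) ?_
    rw [eq, map_le_iff_le_comap, subgroupOf, ← map_le_map_iff_of_injective CE.subtype_injective,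
      map_comap_eq_self (by simpa using TT_le)]
    refine gen_le fun i hi => ?_
    have one : ∀ x (m : x ∈ CE), ι x ∈ closure {ι e1, ι e2} → x ∈ (f.range.comap (ν ι)).map CE.subtype :=
      fun x m e => ⟨⟨x, m⟩, by
        rw [SetLike.mem_coe, mem_comap, (one_iff ⟨x, m⟩).2 e]
        exact one_mem _, rfl⟩
    have two : ∀ x ∈ T1, x ∈ (f.range.comap (ν ι)).map CE.subtype :=
      fun x m => ⟨⟨x, TT_le (T1_le m)⟩, ⟨⟨x, m⟩, rfl⟩, rfl⟩
    rcases List.mem_cons.1 hi with rfl | hi'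
    · exact one _ (TT_le (mem_gen hi)) (subset_closure (Or.inl rfl))
    rcases List.mem_cons.1 hi' with rfl | hi''
    · exact one _ (TT_le (mem_gen hi)) (subset_closure (Or.inr rfl))
    · exact two _ (m1 i hi'')
  have cE : Nat.card (EE ι) ≤ 4 := by
    refine (Nat.card_le_card_of_surjective (fun q : {q // q ∈ [1, qe1, qe2, qe1 * qe2]} =>
      (⟨⟨(ι.comp φ) q, hT ⟨φ q, mem_TT (by revert q; decide +kernel) (by revert q; decide +kernel), rfl⟩⟩,
        psi_E q.2⟩ : EE ι)) fun e => ?_).trans (by rw [Nat.card_eq_fintype_card]; decide +kernel)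
    obtain ⟨q, hq, e'⟩ := mem_E' (ι := ι) e.2
    exact ⟨⟨q, hq⟩, Subtype.ext (Subtype.ext e'.symm)⟩
  have c1 : 64 ≤ Nat.card (S : Subgroup (NB ι)) := by
    have h2 := ((QuotientGroup.mk' (EE ι)).domRestrict (S' : Subgroup (NN ι))).ker.card_mul_index
    rw [index_ker, MonoidHom.domRestrict_range, MonoidHom.ker_domRestrict, QuotientGroup.ker_mk',
      show Nat.card (S' : Subgroup (NN ι)) = 256 from
        (Nat.card_congr (subgroupOfEquivOfLe hT).toEquiv).trans cT] at h2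
    have h3 : Nat.card ((EE ι).subgroupOf (S' : Subgroup (NN ι))) ≤ 4 :=
      (Nat.card_le_card_of_injective (fun x : (EE ι).subgroupOf (S' : Subgroup (NN ι)) => (⟨x.1.1, x.2⟩ : EE ι)) fun _ _ e =>
        Subtype.ext (Subtype.ext (congrArg (fun t : EE ι => t.1) e))).trans cE
    change 64 ≤ Nat.card ((S' : Subgroup (NN ι)).map (QuotientGroup.mk' (EE ι)))
    nlinarith
  have fb : Function.Bijective f.rangeRestrict := by
    refine (Nat.bijective_iff_surjective_and_card _).2 ⟨f.rangeRestrict_surjective, le_antisymm ?_ ?_⟩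
    · rw [card_T1, fr]; exact c1
    · exact Nat.card_le_card_of_surjective _ f.rangeRestrict_surjective
  have e1 : T1 ≃* (S : Subgroup (NB ι)) := (MulEquiv.ofBijective _ fb).trans (MulEquiv.subgroupCongr fr)
  have eT : Tb ι = S := eq.symm
  refine ⟨fun P => ?_, by rw [eT, ← Nat.card_congr e1.toEquiv, card_T1], orderOf_eq_prime ?_ z1, eT ▸ mem, eT ▸ cen,
    fun t ht hcen => ?_⟩
  · rw [eT]
    obtain ⟨Y, hY, ⟨e2⟩⟩ := T1_A8
    have e3 := subgroupOfEquivOfLe hY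
    have c2 : Nat.card (Y.subgroupOf (alternatingGroup (Fin 8))) = 2 ^ 6 := by
      rw [Nat.card_congr e3.toEquiv, ← Nat.card_congr e2.toEquiv, card_T1]; rfl
    have c3 := (Y.subgroupOf (alternatingGroup (Fin 8))).card_mul_index
    have c4 := two_mul_nat_card_alternatingGroup (α := Fin 8)
    rw [Nat.card_perm, Nat.card_fin] at c4
    rw [c2] at c3
    exact ⟨e1.symm.trans (e2.trans (e3.symm.trans
      (Sylow.equiv ((IsPGroup.of_card c2).toSylow (by rw [show Nat.factorial 8 = 40320 from rfl] at c4; omega)) P)))⟩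
  · rw [zb, ← map_pow, show (⟨z, z_CE⟩ : CE) ^ 2 = 1 from Subtype.ext ((sq _).trans q8s.zz), map_one]
  · rw [eT] at ht hcen
    obtain ⟨x, hx, m, rfl⟩ := (mS t).1 ht
    refine (hn.u (ι x) (CE_NN ι m) ((TT_z hx).map ι) fun p hp => ?_).imp
      (fun e => (one_iff _).2 e) fun e => ?_
    · have hp' : p ∈ TT := T1_le (by
        simp only [List.mem_cons, List.not_mem_nil, or_false] at hp
        rcases hp with rfl | rfl | rfl | rfl <;> exact m1 _ (by simp))
      have := hcen _ ((mS _).2 ⟨p, hp', TT_le hp', rfl⟩)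
      rw [eq_comm, ← mul_inv_eq_one, mul_inv_rev, ← mul_assoc, ← map_inv, ← map_inv, ← map_mul, ← map_mul, ← map_mul,
        one_iff] at this
      simpa using this
    · have h1 : ν ι ⟨x, m⟩ * zb ι = 1 := by
        rw [zb, ← map_mul, one_iff]; simpa using e
      have h2 : zb ι * zb ι = 1 := by
        rw [zb, ← map_mul, show (⟨z, z_CE⟩ : CE) * ⟨z, z_CE⟩ = 1 from Subtype.ext q8s.zz, map_one]
      exact mul_right_cancel (h1.trans h2.symm)

end PNAx

theorem nat : NAT.{u} := fun _ _ _ _ h hn => PNAx.nat0 h.st hn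

end CL.N9.P
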